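import Mathlib.Algebra.Polynomial.Laurent
import Mathlib.LinearAlgebra.Matrix.ToLinearEquiv
import Mathlib.LinearAlgebra.Matrix.NonsingularInverse
import Mathlib.Data.Fin.Tuple.Sort
import Mathlib.Data.Int.LeastGreatest
import Mathlib.RingTheory.Polynomial.Basic
import Mathlib.RingTheory.Polynomial.UniqueFactorization
import Mathlib.Algebra.Polynomial.FieldDivision

/-!
# Birkhoff factorization of matrices of Laurent polynomials
-/

set_option autoImplicit false
universe u

open Polynomial LaurentPolynomial Matrix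

namespace K654.Birkhoff

variable {k : Type u} [Field k]

/-- Units of the ring of Laurent polynomials are monomials. -/
theorem exists_of_isUnit (u : LaurentPolynomial k) (hu : IsUnit u) :
    ∃ (c : k) (m : ℤ), c ≠ 0 ∧ u = LaurentPolynomial.C c * T m := by
  obtain ⟨v, hv⟩ := hu.exists_right_inv
  obtain ⟨n, f, hf⟩ := u.exists_T_pow
  obtain ⟨n', g, hg⟩ := v.exists_T_pow
  have h1 : toLaurent (f * g) = toLaurent ((X : k[X]) ^ (n + n')) := by
    rw [map_mul, hf, hg, Polynomial.toLaurent_X_pow]
    rw [show u * T n * (v * T n') = (u * v) * (T n * T n') by ring, hv, one_mul, ← T_add]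
    push_cast
    rfl
  have h2 : f * g = X ^ (n + n') := Polynomial.toLaurent_injective h1
  obtain ⟨i, hi, hif⟩ := (dvd_prime_pow (Polynomial.prime_X (R := k)) (n + n')).mp
    ⟨g, h2.symm⟩
  obtain ⟨w, hw⟩ := hif.symm
  obtain ⟨c, hc, hcw⟩ := Polynomial.isUnit_iff.mp w.isUnit
  refine ⟨c, i - n, hc.ne_zero, ?_⟩
  have h3 : u = toLaurent f * T (-n) := by
    rw [hf, mul_T_assoc, add_neg_cancel, T_zero, mul_one]
  rw [h3, ← hw, ← hcw, map_mul, Polynomial.toLaurent_X_pow, Polynomial.toLaurent_C,
    sub_eq_add_neg, T_add]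
  ring

variable {n : ℕ}

/-- The pair `(U, d)` brings `B` into the ring of polynomials in `T⁻¹`, with result `C'`. -/
def Good (B : Matrix (Fin n) (Fin n) (LaurentPolynomial k)) (U : Matrix (Fin n) (Fin n) k[X])
    (d : Fin n → ℤ) (C' : Matrix (Fin n) (Fin n) k[X]) : Prop :=
  B * U.map toLaurent * Matrix.diagonal (fun i => T (- d i)) =
    (C'.map toLaurent).map LaurentPolynomial.invert

theorem good_iff (B : Matrix (Fin n) (Fin n) (LaurentPolynomial k))
    (U : Matrix (Fin n) (Fin n) k[X]) (d : Fin n → ℤ) (C' : Matrix (Fin n) (Fin n) k[X]) :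
    Good B U d C' ↔ ∀ r j, (B * U.map toLaurent) r j * T (- d j) =
      LaurentPolynomial.invert (toLaurent (C' r j)) := by
  unfold Good
  rw [← Matrix.ext_iff]
  simp only [Matrix.mul_diagonal, Matrix.map_apply]

theorem prod_T {ι : Type*} (s : Finset ι) (e : ι → ℤ) :
    ∏ i ∈ s, (T (e i) : LaurentPolynomial k) = T (∑ i ∈ s, e i) := by
  classical
  induction s using Finset.induction_on with
  | empty => simp
  | insert a s ha ih => rw [Finset.prod_insert ha, Finset.sum_insert ha, ih, T_add]

/-- The determinant of a good pair. -/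
theorem det_of_good {B : Matrix (Fin n) (Fin n) (LaurentPolynomial k)} {b : k} {m : ℤ}
    (hb : b ≠ 0) (hB : B.det = LaurentPolynomial.C b * T m) {U : Matrix (Fin n) (Fin n) k[X]}
    (hU : IsUnit U) {d : Fin n → ℤ} {C' : Matrix (Fin n) (Fin n) k[X]} (h : Good B U d C') :
    ∃ (c : k) (N : ℕ), c ≠ 0 ∧ ∑ i, d i - m = N ∧ C'.det = Polynomial.C c * X ^ N := by
  have h1 := congrArg Matrix.det h
  rw [Matrix.det_mul, Matrix.det_mul, Matrix.det_diagonal, prod_T, hB] at h1
  have h2 : (U.map (toLaurent : k[X] → LaurentPolynomial k)).det = toLaurent U.det := by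
    have := (RingHom.map_det (toLaurent : k[X] →+* LaurentPolynomial k) U).symm
    simpa [RingHom.mapMatrix_apply] using this
  have h3 : ((C'.map (toLaurent : k[X] → LaurentPolynomial k)).map
      LaurentPolynomial.invert).det = LaurentPolynomial.invert (toLaurent C'.det) := by
    have e1 := (RingHom.map_det (toLaurent : k[X] →+* LaurentPolynomial k) C').symm
    have e2 := (RingHom.map_det ((LaurentPolynomial.invert (R := k)) :
      LaurentPolynomial k →+* LaurentPolynomial k) (C'.map (toLaurent : k[X] →+* _))).symm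
    simp only [RingHom.mapMatrix_apply] at e1 e2
    rw [e1] at e2
    exact e2
  rw [h2, h3] at h1
  obtain ⟨v, hv, hvU⟩ := Polynomial.isUnit_iff.mp ((Matrix.isUnit_iff_isUnit_det U).mp hU)
  rw [← hvU, Polynomial.toLaurent_C] at h1
  -- apply the inversion
  have h4 := congrArg LaurentPolynomial.invert h1
  have hinv : ∀ p : LaurentPolynomial k, LaurentPolynomial.invert (LaurentPolynomial.invert p) = p
      := fun p => LaurentPolynomial.invert.symm_apply_apply p
  rw [hinv, map_mul, map_mul, map_mul, invert_C, invert_C, invert_T, invert_T] at h4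
  have h5 : LaurentPolynomial.C (b * v) * T (∑ i, d i - m) = toLaurent C'.det := by
    rw [← h4, map_mul, sub_eq_add_neg, T_add, Finset.sum_neg_distrib, neg_neg]
    ring
  have hbv : b * v ≠ 0 := mul_ne_zero hb hv.ne_zero
  obtain ⟨N, hN⟩ | ⟨N, hN⟩ : (∃ N : ℕ, ∑ i, d i - m = N) ∨ ∃ N : ℕ, ∑ i, d i - m = -(N + 1) := by
    rcases le_or_gt 0 (∑ i, d i - m) with h0 | h0
    · exact Or.inl ⟨(∑ i, d i - m).toNat, (Int.toNat_of_nonneg h0).symm⟩
    · exact Or.inr ⟨(-(∑ i, d i - m) - 1).toNat, by omega⟩
  · refine ⟨b * v, N, hbv, hN, ?_⟩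
    apply Polynomial.toLaurent_injective
    rw [← h5, hN, Polynomial.toLaurent_C_mul_X_pow]
  · exfalso
    have h6 : C'.det * X ^ (N + 1) = Polynomial.C (b * v) := by
      apply Polynomial.toLaurent_injective
      rw [map_mul, ← h5, Polynomial.toLaurent_X_pow, Polynomial.toLaurent_C, mul_T_assoc, hN]
      push_cast
      rw [neg_add_cancel, T_zero, mul_one]
    have h7 := congrArg (Polynomial.eval 0) h6
    simp only [Polynomial.eval_mul, Polynomial.eval_pow, Polynomial.eval_X,
      Polynomial.eval_C, zero_pow (Nat.succ_ne_zero N), mul_zero] at h7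
    exact hbv h7.symm

/-- Reduction step: if the constant matrix is singular, the degrees can be lowered. -/
theorem exists_smaller {B : Matrix (Fin n) (Fin n) (LaurentPolynomial k)}
    {U : Matrix (Fin n) (Fin n) k[X]} (hU : IsUnit U) {d : Fin n → ℤ}
    {C' : Matrix (Fin n) (Fin n) k[X]} (h : Good B U d C')
    (hs : (C'.map (Polynomial.eval 0)).det = 0) :
    ∃ (U' : Matrix (Fin n) (Fin n) k[X]) (d' : Fin n → ℤ) (C'' : Matrix (Fin n) (Fin n) k[X]),
      IsUnit U' ∧ Good B U' d' C'' ∧ ∑ i, d' i = ∑ i, d i - 1 := by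
  classical
  obtain ⟨v, hv0, hv⟩ := Matrix.exists_mulVec_eq_zero_iff.mpr hs
  obtain ⟨i₀, hi₀⟩ : ∃ i, v i ≠ 0 := by
    by_contra hcon
    push Not at hcon
    exact hv0 (funext hcon)
  obtain ⟨i, hi, himax⟩ := Finset.exists_max_image (Finset.univ.filter fun j => v j ≠ 0) d
    ⟨i₀, by simpa using hi₀⟩
  have hvi : v i ≠ 0 := by simpa using hi
  have hmax : ∀ j, v j ≠ 0 → d j ≤ d i := fun j hj => himax j (by simpa using hj)
  let w : Fin n → k[X] := fun j => Polynomial.C (v j) * X ^ (d i - d j).toNat
  let E : Matrix (Fin n) (Fin n) k[X] := (1 : Matrix (Fin n) (Fin n) k[X]).updateCol i w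
  have hE : E.det = Polynomial.C (v i) := by
    have h1 := Matrix.cramer_apply (1 : Matrix (Fin n) (Fin n) k[X]) w i
    rw [Matrix.cramer_one] at h1
    change _ = E.det at h1
    rw [← h1]
    simp [w]
  have hEu : IsUnit E := by
    rw [Matrix.isUnit_iff_isUnit_det, hE]
    exact Polynomial.isUnit_C.mpr hvi.isUnit
  let q : Fin n → k[X] := fun r => (∑ j, C' r j * Polynomial.C (v j)).divX
  have hq : ∀ r, ∑ j, C' r j * Polynomial.C (v j) = q r * X := by
    intro r
    have h1 := Polynomial.divX_mul_X_add (∑ j, C' r j * Polynomial.C (v j))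
    have h2 : (∑ j, C' r j * Polynomial.C (v j)).coeff 0 = 0 := by
      rw [Polynomial.coeff_zero_eq_eval_zero, Polynomial.eval_finsetSum]
      have h3 := congrFun hv r
      simp only [Matrix.mulVec, dotProduct, Matrix.map_apply, Pi.zero_apply] at h3
      simpa using h3
    rw [h2, Polynomial.C_0, add_zero] at h1
    exact h1.symm
  refine ⟨U * E, Function.update d i (d i - 1), C'.updateCol i q, hU.mul hEu, ?_, ?_⟩
  · rw [good_iff] at h ⊢
    intro r j
    have hBUE : (B * (U * E).map toLaurent) r j =
        ∑ l, (B * U.map toLaurent) r l * toLaurent (E l j) := by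
      have : (U * E).map (toLaurent : k[X] → LaurentPolynomial k) =
          U.map toLaurent * E.map toLaurent := by
        have := (RingHom.mapMatrix (m := Fin n) (toLaurent : k[X] →+* LaurentPolynomial k)).map_mul
          U E
        simpa [RingHom.mapMatrix_apply] using this
      rw [this, ← Matrix.mul_assoc, Matrix.mul_apply]
      rfl
    rw [hBUE]
    by_cases hj : j = i
    · subst hj
      rw [Matrix.updateCol_self, Function.update_self]
      have hterm : ∀ l, (B * U.map toLaurent) r l * toLaurent (E l j) * T (-(d j - 1)) =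
          LaurentPolynomial.invert (toLaurent (C' r l * Polynomial.C (v l))) * T 1 := by
        intro l
        have hEl : E l j = w l := Matrix.updateCol_self
        have hR : LaurentPolynomial.invert (toLaurent (C' r l * Polynomial.C (v l))) =
            LaurentPolynomial.invert (toLaurent (C' r l)) * LaurentPolynomial.C (v l) := by
          rw [map_mul, Polynomial.toLaurent_C, map_mul, invert_C]
        rw [hEl, hR, ← h r l]
        by_cases hvl : v l = 0
        · simp [w, hvl]
        · have hle := hmax l hvl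
          have h1 : toLaurent (w l) = LaurentPolynomial.C (v l) * T (d j - d l) := by
            rw [Polynomial.toLaurent_C_mul_X_pow, Int.toNat_of_nonneg (by omega)]
          rw [h1]
          have h2 : (T (d j - d l) * T (-(d j - 1)) : LaurentPolynomial k) = T (- d l) * T 1 := by
            rw [← T_add, ← T_add]
            congr 1
            ring
          calc _ = (B * U.map toLaurent) r l * LaurentPolynomial.C (v l) *
              (T (d j - d l) * T (-(d j - 1))) := by ring
            _ = _ := by rw [h2]; ring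
      rw [Finset.sum_mul]
      simp_rw [hterm]
      rw [← Finset.sum_mul, ← map_sum, ← map_sum, hq, map_mul, map_mul, Polynomial.toLaurent_X,
        invert_T, mul_T_assoc]
      simp
    · rw [Matrix.updateCol_ne hj, Function.update_of_ne hj, ← h r j, Finset.sum_eq_single j]
      · have : E j j = 1 := by
          change (1 : Matrix (Fin n) (Fin n) k[X]).updateCol i w j j = 1
          rw [Matrix.updateCol_ne hj, Matrix.one_apply_eq]
        rw [this, map_one, mul_one]
      · intro l _ hl
        have : E l j = 0 := by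
          change (1 : Matrix (Fin n) (Fin n) k[X]).updateCol i w l j = 0
          rw [Matrix.updateCol_ne hj, Matrix.one_apply_ne hl]
        rw [this, map_zero, mul_zero]
      · intro hcon
        exact absurd (Finset.mem_univ j) hcon
  · rw [Finset.sum_update_of_mem (Finset.mem_univ i), ← Finset.add_sum_erase _ d (Finset.mem_univ i),
      Finset.sdiff_singleton_eq_erase]
    ring

/-- Every matrix has a good pair. -/
theorem exists_good (B : Matrix (Fin n) (Fin n) (LaurentPolynomial k)) :
    ∃ (d : Fin n → ℤ) (C' : Matrix (Fin n) (Fin n) k[X]), Good B 1 d C' := by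
  have h1 : ∀ f : LaurentPolynomial k, ∃ N : ℕ, ∀ m : ℕ, N ≤ m → ∃ p : k[X],
      f * T (-(m : ℤ)) = LaurentPolynomial.invert (toLaurent p) := by
    intro f
    obtain ⟨N, p, hp⟩ := (LaurentPolynomial.invert f).exists_T_pow
    refine ⟨N, fun m hm => ⟨p * X ^ (m - N), ?_⟩⟩
    rw [map_mul, hp, map_mul, map_mul, Polynomial.toLaurent_X_pow, invert_T, invert_T,
      LaurentPolynomial.invert.symm_apply_apply f |> fun h => show LaurentPolynomial.invert
        (LaurentPolynomial.invert f) = f from h, mul_T_assoc]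
    congr 2
    push_cast [hm]
    ring
  choose N hN using fun (r : Fin n) (j : Fin n) => h1 (B r j)
  let M : ℕ := ∑ r, ∑ j, N r j
  have hM : ∀ r j, N r j ≤ M := fun r j =>
    (Finset.single_le_sum (f := fun j => N r j) (fun _ _ => Nat.zero_le _)
      (Finset.mem_univ j)).trans
      (Finset.single_le_sum (f := fun r => ∑ j, N r j) (fun _ _ => Nat.zero_le _)
        (Finset.mem_univ r))
  choose C' hC' using fun (r : Fin n) (j : Fin n) => hN r j M (hM r j)
  refine ⟨fun _ => M, Matrix.of C', ?_⟩
  rw [good_iff]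
  intro r j
  have h2 : (1 : Matrix (Fin n) (Fin n) k[X]).map (toLaurent : k[X] → LaurentPolynomial k) = 1 := by
    rw [Matrix.map_one _ (map_zero _) (map_one _)]
  rw [h2, Matrix.mul_one, hC' r j]
  rfl

/-- Column reduction. -/
theorem exists_reduced (B : Matrix (Fin n) (Fin n) (LaurentPolynomial k)) (hB : IsUnit B) :
    ∃ (U : Matrix (Fin n) (Fin n) k[X]) (d : Fin n → ℤ) (C' : Matrix (Fin n) (Fin n) k[X]),
      IsUnit U ∧ IsUnit C' ∧ Good B U d C' := by
  obtain ⟨b, m, hb, hdet⟩ := exists_of_isUnit _ ((Matrix.isUnit_iff_isUnit_det B).mp hB)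
  obtain ⟨lb, ⟨U, d, C', hU, hgood, hsum⟩, hmin⟩ := Int.exists_least_of_bdd
    (P := fun z : ℤ => ∃ (U : Matrix (Fin n) (Fin n) k[X]) (d : Fin n → ℤ)
      (C' : Matrix (Fin n) (Fin n) k[X]), IsUnit U ∧ Good B U d C' ∧ ∑ i, d i = z)
    ⟨m, by
      rintro z ⟨U, d, C', hU, hgood, rfl⟩
      obtain ⟨c, N, -, hN, -⟩ := det_of_good hb hdet hU hgood
      omega⟩ (by
      obtain ⟨d, C', h⟩ := exists_good B
      exact ⟨_, 1, d, C', isUnit_one, h, rfl⟩)
  have hns : (C'.map (Polynomial.eval 0)).det ≠ 0 := by
    intro hs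
    obtain ⟨U', d', C'', hU', hgood', hsum'⟩ := exists_smaller hU hgood hs
    have := hmin _ ⟨U', d', C'', hU', hgood', rfl⟩
    omega
  obtain ⟨c, N, hc, hN, hdetC⟩ := det_of_good hb hdet hU hgood
  have hev : (C'.map (Polynomial.eval 0)).det = Polynomial.eval 0 C'.det := by
    have := (RingHom.map_det (Polynomial.evalRingHom (0 : k)) C').symm
    simpa [RingHom.mapMatrix_apply] using this
  have hN0 : N = 0 := by
    by_contra hN0
    apply hns
    rw [hev, hdetC]
    simp [zero_pow hN0]
  refine ⟨U, d, C', hU, ?_, hgood⟩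
  rw [Matrix.isUnit_iff_isUnit_det, hdetC, hN0, pow_zero, mul_one]
  exact Polynomial.isUnit_C.mpr hc.isUnit

/-- Birkhoff factorization. -/
theorem birkhoff (A : Matrix (Fin n) (Fin n) (LaurentPolynomial k)) (hA : IsUnit A) :
    ∃ (P Q : Matrix (Fin n) (Fin n) k[X]) (d : Fin n → ℤ),
      IsUnit P ∧ IsUnit Q ∧ Antitone d ∧
        A = P.map toLaurent * Matrix.diagonal (fun i => LaurentPolynomial.T (d i)) *
          (Q.map toLaurent).map LaurentPolynomial.invert := by
  obtain ⟨U, d, C', hU, hC', hgood⟩ := exists_reduced A⁻¹ ((Matrix.isUnit_nonsing_inv_iff).mpr hA)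
  obtain ⟨Q, hQ1⟩ := hC'.exists_right_inv
  have hQ2 : Q * C' = 1 := mul_eq_one_comm.mp hQ1
  have hmap : ∀ (X Y : Matrix (Fin n) (Fin n) k[X]),
      ((X * Y).map toLaurent).map (LaurentPolynomial.invert : LaurentPolynomial k → _) =
        (X.map toLaurent).map LaurentPolynomial.invert *
          (Y.map toLaurent).map LaurentPolynomial.invert := by
    intro X Y
    ext i j
    simp [Matrix.mul_apply, map_sum]
  have hone : ((1 : Matrix (Fin n) (Fin n) k[X]).map toLaurent).map
      (LaurentPolynomial.invert : LaurentPolynomial k → _) = 1 := by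
    rw [Matrix.map_one _ (map_zero _) (map_one _), Matrix.map_one _ (map_zero _) (map_one _)]
  have hmain : A = U.map toLaurent * Matrix.diagonal (fun i => T (- d i)) *
      (Q.map toLaurent).map LaurentPolynomial.invert := by
    unfold Good at hgood
    have h1 : A * A⁻¹ = 1 := Matrix.mul_nonsing_inv A ((Matrix.isUnit_iff_isUnit_det A).mp hA)
    have h2 : U.map toLaurent * Matrix.diagonal (fun i => T (- d i)) =
        A * (C'.map toLaurent).map LaurentPolynomial.invert := by
      rw [← hgood, Matrix.mul_assoc A⁻¹, ← Matrix.mul_assoc A, h1, Matrix.one_mul]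
    rw [h2, Matrix.mul_assoc, ← hmap, hQ1, hone, Matrix.mul_one]
  let σ := Tuple.sort d
  have hσ : Monotone (d ∘ σ) := Tuple.monotone_sort d
  obtain ⟨V, hV⟩ := hU.exists_right_inv
  have hunit : ∀ (X Y : Matrix (Fin n) (Fin n) k[X]), X * Y = 1 →
      IsUnit (X.submatrix id σ) ∧ IsUnit (X.submatrix σ id) := by
    intro X Y hXY
    have hYX : Y * X = 1 := mul_eq_one_comm.mp hXY
    constructor
    · refine IsUnit.of_mul_eq_one (Y.submatrix σ id) ?_
      rw [Matrix.submatrix_mul_equiv, hXY]
      exact Matrix.submatrix_one id Function.injective_id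
    · refine IsUnit.of_mul_eq_one_right (Y.submatrix id σ) ?_
      rw [Matrix.submatrix_mul_equiv, hYX]
      exact Matrix.submatrix_one id Function.injective_id
  refine ⟨U.submatrix id σ, Q.submatrix σ id, fun i => - d (σ i), (hunit U V hV).1,
    (hunit Q C' hQ2).2, fun i j hij => neg_le_neg (hσ hij), ?_⟩
  have e1 : (U.submatrix id σ).map (toLaurent : k[X] → LaurentPolynomial k) =
      (U.map toLaurent).submatrix id σ := rfl
  have e2 : ((Q.submatrix σ id).map (toLaurent : k[X] → LaurentPolynomial k)).map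
      (LaurentPolynomial.invert : LaurentPolynomial k → _) =
      ((Q.map toLaurent).map LaurentPolynomial.invert).submatrix σ id := rfl
  have e3 : Matrix.diagonal (fun i => (T (- d (σ i)) : LaurentPolynomial k)) =
      (Matrix.diagonal (fun i => (T (- d i) : LaurentPolynomial k))).submatrix σ σ :=
    (Matrix.submatrix_diagonal_equiv (fun i => (T (- d i) : LaurentPolynomial k)) σ).symm
  rw [e1, e2, e3, Matrix.submatrix_mul_equiv, Matrix.submatrix_mul_equiv, ← hmain]
  rfl

end K654.Birkhoff
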